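import Mathlib
import Cfsg.Agent.Lib.PGroup.Frattini
import Cfsg.Agent.Lib.H66.RankTwo.PCentral

/-!
For odd `p`, a finite `p`-group all of whose elements of order `p` are central is generated by
`r` elements, where `p ^ r` is the number of solutions of `x ^ p = 1` (Thompson).
-/

set_option autoImplicit false

namespace Cfsg.Agent.Lib.PGenBound

open Subgroup
open scoped commutatorElement

universe u

/-- `G` can be generated by at most `m` elements. -/
def GenBy (G : Type*) [Group G] (m : ℕ) : Prop :=
  ∃ S : Finset G, S.card ≤ m ∧ closure (S : Set G) = ⊤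

theorem GenBy.mono {G : Type*} [Group G] {m n : ℕ} (h : GenBy G m) (hmn : m ≤ n) : GenBy G n :=
  let ⟨S, hS, hc⟩ := h; ⟨S, hS.trans hmn, hc⟩

theorem GenBy.of_ker {G H : Type*} [Group G] [Group H] (f : G →* H) {m n : ℕ}
    (hk : GenBy f.ker m) (hr : GenBy f.range n) : GenBy G (m + n) := by
  classical
  obtain ⟨S, hS, hSc⟩ := hk
  obtain ⟨T, hT, hTc⟩ := hr
  have hlift : ∀ t : f.range, ∃ g : G, f g = t := fun t => t.2
  choose g hg using hlift
  refine ⟨S.image Subtype.val ∪ T.image g, ?_, ?_⟩
  · exact (Finset.card_union_le _ _).trans (Nat.add_le_add (Finset.card_image_le.trans hS)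
      (Finset.card_image_le.trans hT))
  · set D := closure ((S.image Subtype.val ∪ T.image g : Finset G) : Set G)
    have hkD : f.ker ≤ D := by
      intro x hx
      have : (⟨x, hx⟩ : f.ker) ∈ closure (S : Set f.ker) := hSc ▸ mem_top _
      have h2 := mem_map_of_mem f.ker.subtype this
      rw [MonoidHom.map_closure] at h2
      refine closure_mono ?_ h2
      rintro _ ⟨s, hs, rfl⟩
      simp only [Finset.coe_union, Finset.coe_image, Set.mem_union, Set.mem_image]
      exact Or.inl ⟨s, hs, rfl⟩
    refine eq_top_iff.2 fun x _ => ?_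
    have hx : f.rangeRestrict x ∈ D.map f.rangeRestrict := by
      have : closure (T : Set f.range) ≤ D.map f.rangeRestrict := by
        rw [closure_le]
        intro t ht
        refine ⟨g t, subset_closure ?_, Subtype.ext (hg t)⟩
        simp only [Finset.coe_union, Finset.coe_image, Set.mem_union, Set.mem_image]
        exact Or.inr ⟨t, ht, rfl⟩
      exact this (hTc ▸ mem_top _)
    obtain ⟨d, hd, hdx⟩ := hx
    have : d⁻¹ * x ∈ f.ker := by
      rw [MonoidHom.mem_ker, map_mul, map_inv, inv_mul_eq_one]
      exact congrArg Subtype.val hdx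
    simpa using mul_mem hd (hkD this)

variable {p : ℕ} [Fact p.Prime]

/-- A `p`-group with `|G : Φ(G)| ≤ p ^ r` is generated by `r` elements. -/
theorem genBy_of_index_frattini_le {G : Type*} [Group G] [Finite G] (hG : IsPGroup p G) {r : ℕ}
    (hr : (frattini G).index ≤ p ^ r) : GenBy G r := by
  classical
  let K : Finset G → Subgroup G := fun S => closure (S : Set G) ⊔ frattini G
  have key : ∀ i, ∃ S : Finset G, S.card ≤ i ∧
      (K S = ⊤ ∨ p ^ i * Nat.card (frattini G) ≤ Nat.card (K S)) := by
    intro i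
    induction i with
    | zero => exact ⟨∅, le_rfl, Or.inr (by rw [pow_zero, one_mul]; exact card_le_of_le le_sup_right)⟩
    | succ i ih =>
      obtain ⟨S, hS, hK⟩ := ih
      by_cases ht : K S = ⊤
      · exact ⟨S, hS.trans (Nat.le_succ i), Or.inl ht⟩
      obtain ⟨y, -, hy⟩ := SetLike.exists_of_lt (lt_top_iff_ne_top.mpr ht)
      refine ⟨insert y S, (Finset.card_insert_le _ _).trans (Nat.add_le_add_right hS 1), Or.inr ?_⟩
      have hK := hK.resolve_left ht
      have hle : K S ≤ K (insert y S) :=
        sup_le_sup_right (Subgroup.closure_mono (by simp)) _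
      have hyK : y ∈ K (insert y S) := mem_sup_left (subset_closure (by simp))
      obtain ⟨a, ha⟩ := IsPGroup.iff_card.mp (hG.to_subgroup (K S))
      obtain ⟨b, hb⟩ := IsPGroup.iff_card.mp (hG.to_subgroup (K (insert y S)))
      have hne : Nat.card (K S) ≠ Nat.card (K (insert y S)) := fun e =>
        hy ((eq_of_le_of_card_ge hle e.ge).symm ▸ hyK)
      have hlt := lt_of_le_of_ne (card_le_of_le hle) hne
      rw [ha, hb] at hlt
      have hab := (Nat.pow_lt_pow_iff_right (Fact.out : p.Prime).one_lt).1 hlt
      calc p ^ (i + 1) * Nat.card (frattini G) = p * (p ^ i * Nat.card (frattini G)) := by ring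
        _ ≤ p * Nat.card (K S) := Nat.mul_le_mul_left _ hK
        _ = p ^ (a + 1) := by rw [ha]; ring
        _ ≤ Nat.card (K (insert y S)) := hb ▸ Nat.pow_le_pow_right (Fact.out : p.Prime).pos hab
  obtain ⟨S, hS, hK⟩ := key r
  refine ⟨S, hS, frattini_nongenerating (hK.elim id fun h => eq_top_of_le_card _ ?_)⟩
  rw [← (frattini G).card_mul_index]
  calc _ ≤ Nat.card (frattini G) * p ^ r := Nat.mul_le_mul_left _ hr
    _ ≤ _ := by rwa [mul_comm]

/-- Thompson: for odd `p`, if all solutions of `x ^ p = 1` are central and lie in a subgroup of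
order at most `p ^ r`, then `r` elements generate. -/
theorem genBy_of_central {G : Type u} [Group G] [Finite G] (hp : p ≠ 2) (hG : IsPGroup p G)
    (hc : H66.RankTwo.PCen p G) {r : ℕ} (hr : Nat.card {x : G // x ^ p = 1} ≤ p ^ r) :
    GenBy G r := by
  refine genBy_of_index_frattini_le hG ?_
  have hle : H66.RankTwo.Pw p G ≤ frattini G := by
    rw [H66.RankTwo.Pw, closure_le]
    rintro _ ⟨x, rfl⟩
    exact PFrattini.pow_mem_frattini hG x
  calc (frattini G).index ≤ (H66.RankTwo.Pw p G).index :=
        Nat.le_of_dvd (Nat.pos_of_ne_zero index_ne_zero_of_finite) (index_dvd_of_le hle)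
    _ ≤ Nat.card (H66.RankTwo.Om hc) := H66.RankTwo.index_Pw_le hp hG hc
    _ = Nat.card {x : G // x ^ p = 1} := rfl
    _ ≤ _ := hr

end Cfsg.Agent.Lib.PGenBound
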