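import Mathlib
import Cfsg.Agent.Lib.PGenBound.Central

/-!
Leading positions: a finite `p`-group with a faithful upper unitriangular representation of
degree `a` over `ZMod p` is generated by `a ^ 2 / 4` elements.
-/

set_option autoImplicit false

namespace Cfsg.Agent.Lib.PGenBound

open Subgroup Matrix
open scoped commutatorElement

variable {R : Type*} [CommRing R] {a : ℕ}

/-- The rank of a position: by superdiagonal first, then by row. -/
def posKey (q : Fin a × Fin a) : ℕ := (q.2.val - q.1.val) * a + q.1.val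

/-- Strictly upper triangular. -/
def StrictUp (X : Matrix (Fin a) (Fin a) R) : Prop := ∀ i j, j ≤ i → X i j = 0

/-- Zero at all positions of rank below `n`. -/
def ZeroBelow (n : ℕ) (X : Matrix (Fin a) (Fin a) R) : Prop :=
  ∀ i j, i < j → posKey (i, j) < n → X i j = 0

theorem posKey_inj {i j k l : Fin a} (h1 : i < j) (h2 : k < l)
    (h : posKey (i, j) = posKey (k, l)) : i = k ∧ j = l := by
  have ha : 0 < a := i.pos
  simp only [posKey] at h
  have e1 : i.val = k.val := by
    have := congrArg (· % a) h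
    simpa [Nat.mul_add_mod_self_right, Nat.mod_eq_of_lt i.isLt, Nat.mod_eq_of_lt k.isLt] using this
  rw [e1, Nat.add_right_cancel_iff, Nat.mul_left_inj ha.ne'] at h
  exact ⟨Fin.ext e1, Fin.ext (by have := h1; have := h2; omega)⟩

theorem posKey_lt_of_left {i l j : Fin a} (h1 : i < l) (h2 : l < j) :
    posKey (i, l) < posKey (i, j) := by
  simp only [posKey]
  have : l.val - i.val < j.val - i.val := by
    have : i.val < l.val := h1
    have : l.val < j.val := h2
    omega
  nlinarith [i.isLt]

theorem posKey_lt_of_right {i l j : Fin a} (h1 : i < l) (h2 : l < j) :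
    posKey (l, j) < posKey (i, j) := by
  simp only [posKey]
  have : j.val - l.val + 1 ≤ j.val - i.val := by
    have : i.val < l.val := h1
    have : l.val < j.val := h2
    omega
  nlinarith [l.isLt]

theorem StrictUp.add {X Y : Matrix (Fin a) (Fin a) R} (hX : StrictUp X) (hY : StrictUp Y) :
    StrictUp (X + Y) := fun i j h => by rw [Matrix.add_apply, hX i j h, hY i j h, add_zero]

theorem StrictUp.mul {X Y : Matrix (Fin a) (Fin a) R} (hX : StrictUp X) (hY : StrictUp Y) :
    StrictUp (X * Y) := fun i j h => by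
  rw [Matrix.mul_apply]
  refine Finset.sum_eq_zero fun l _ => ?_
  rcases le_or_gt l i with hl | hl
  · rw [hX i l hl, zero_mul]
  · rw [hY l j (h.trans hl.le), mul_zero]

/-- A product with a strictly upper factor sees only lower positions of the left factor. -/
theorem mul_apply_eq_zero {n : ℕ} {X Y : Matrix (Fin a) (Fin a) R} (hX : StrictUp X)
    (hY : StrictUp Y) (hZ : ZeroBelow n X) {i j : Fin a} (h : posKey (i, j) ≤ n) :
    (X * Y) i j = 0 := by
  rw [Matrix.mul_apply]
  refine Finset.sum_eq_zero fun l _ => ?_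
  rcases le_or_gt l i with hl | hl
  · rw [hX i l hl, zero_mul]
  rcases le_or_gt j l with hj | hj
  · rw [hY l j hj, mul_zero]
  · rw [hZ i l hl (lt_of_lt_of_le (posKey_lt_of_left hl hj) h), zero_mul]

/-- The leading term of the bracket. -/
theorem bracket_apply {X Y : Matrix (Fin a) (Fin a) R} (hX : StrictUp X) (hY : StrictUp Y)
    {i j k : Fin a} (hij : i < j) (hjk : j < k) (hXz : ZeroBelow (posKey (i, j)) X)
    (hYz : ZeroBelow (posKey (j, k)) Y) :
    (X * Y - Y * X) i k = X i j * Y j k ∧
      ZeroBelow (posKey (i, k)) (X * Y - Y * X) := by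
  have hij' : i.val < j.val := hij
  have hjk' : j.val < k.val := hjk
  -- a nonzero summand forces both factors to be at or beyond their leading positions
  have hX0 : ∀ r l, X r l ≠ 0 → r.val < l.val ∧
      (j.val - i.val < l.val - r.val ∨ j.val - i.val = l.val - r.val ∧ i.val ≤ r.val) := by
    intro r l h
    have hrl : r < l := lt_of_not_ge fun h' => h (hX r l h')
    refine ⟨hrl, ?_⟩
    by_contra hc
    simp only [not_or, not_and, not_lt, not_le] at hc
    refine h (hXz r l hrl ?_)
    simp only [posKey]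
    rcases hc.1.lt_or_eq with h1 | h1
    · nlinarith [r.isLt]
    · rw [h1]; have := hc.2 h1.symm; omega
  have hY0 : ∀ r l, Y r l ≠ 0 → r.val < l.val ∧
      (k.val - j.val < l.val - r.val ∨ k.val - j.val = l.val - r.val ∧ j.val ≤ r.val) := by
    intro r l h
    have hrl : r < l := lt_of_not_ge fun h' => h (hY r l h')
    refine ⟨hrl, ?_⟩
    by_contra hc
    simp only [not_or, not_and, not_lt, not_le] at hc
    refine h (hYz r l hrl ?_)
    simp only [posKey]
    rcases hc.1.lt_or_eq with h1 | h1
    · nlinarith [r.isLt]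
    · rw [h1]; have := hc.2 h1.symm; omega
  have hkey : ∀ r c : Fin a, r < c → posKey (r, c) ≤ posKey (i, k) →
      c.val - r.val < k.val - i.val ∨ c.val - r.val = k.val - i.val ∧ r.val ≤ i.val := by
    intro r c _ hle
    simp only [posKey] at hle
    rcases lt_trichotomy (c.val - r.val) (k.val - i.val) with h | h | h
    · exact Or.inl h
    · refine Or.inr ⟨h, ?_⟩; rw [h] at hle; omega
    · exfalso; nlinarith [i.isLt]
  have hYX : ∀ r c : Fin a, r < c → posKey (r, c) ≤ posKey (i, k) → (Y * X) r c = 0 := by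
    intro r c hrc hle
    rw [Matrix.mul_apply]
    refine Finset.sum_eq_zero fun l _ => ?_
    by_contra h
    obtain ⟨h1, h2⟩ := hY0 r l (left_ne_zero_of_mul h)
    obtain ⟨h3, h4⟩ := hX0 l c (right_ne_zero_of_mul h)
    have := hkey r c hrc hle
    omega
  have hXY : ∀ r c : Fin a, r < c → posKey (r, c) ≤ posKey (i, k) → ∀ l, X r l * Y l c ≠ 0 →
      r = i ∧ c = k ∧ l = j := by
    intro r c hrc hle l h
    obtain ⟨h1, h2⟩ := hX0 r l (left_ne_zero_of_mul h)
    obtain ⟨h3, h4⟩ := hY0 l c (right_ne_zero_of_mul h)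
    have := hkey r c hrc hle
    exact ⟨Fin.ext (by omega), Fin.ext (by omega), Fin.ext (by omega)⟩
  constructor
  · rw [Matrix.sub_apply, hYX i k (hij.trans hjk) le_rfl, sub_zero, Matrix.mul_apply]
    refine Finset.sum_eq_single j (fun l _ hl => ?_) (fun h => absurd (Finset.mem_univ j) h)
    by_contra h
    exact hl (hXY i k (hij.trans hjk) le_rfl l h).2.2
  · intro r c hrc hlt
    rw [Matrix.sub_apply, hYX r c hrc hlt.le, sub_zero, Matrix.mul_apply]
    refine Finset.sum_eq_zero fun l _ => ?_
    by_contra h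
    obtain ⟨rfl, rfl, -⟩ := hXY r c hrc hlt.le l h
    exact lt_irrefl _ hlt

variable {p : ℕ} [Fact p.Prime] {H : Type*} [Group H]
  (ρ : H →* Matrix (Fin a) (Fin a) (ZMod p))

/-- Displacement of an element. -/
def disp (h : H) : Matrix (Fin a) (Fin a) (ZMod p) := ρ h - 1

theorem disp_mul (x y : H) : disp ρ (x * y) = disp ρ x + disp ρ y + disp ρ x * disp ρ y := by
  simp only [disp, map_mul]; noncomm_ring

theorem disp_commutator (x y : H) :
    disp ρ ⁅x, y⁆ = (disp ρ x * disp ρ y - disp ρ y * disp ρ x) * (1 + disp ρ (y * x)⁻¹) := by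
  have e : ⁅x, y⁆ = x * y * (y * x)⁻¹ := by simp only [commutatorElement_def]; group
  have hone : ρ (y * x) * ρ (y * x)⁻¹ = 1 := by rw [← map_mul, mul_inv_cancel, map_one]
  have h1 : ρ ⁅x, y⁆ - 1 = (ρ (x * y) - ρ (y * x)) * ρ (y * x)⁻¹ := by
    rw [sub_mul, hone, ← map_mul, ← e]
  simp only [disp, add_sub_cancel]
  rw [h1, map_mul, map_mul]
  noncomm_ring

variable [Finite H] (hu : ∀ h, StrictUp (disp ρ h))
include hu

theorem disp_eq_zero_mul {n : ℕ} {x y : H} (hx : ZeroBelow n (disp ρ x))
    {i j : Fin a} (h : posKey (i, j) ≤ n) :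
    disp ρ (x * y) i j = disp ρ x i j + disp ρ y i j := by
  rw [disp_mul, Matrix.add_apply, Matrix.add_apply, mul_apply_eq_zero (hu x) (hu y) hx h, add_zero]

/-- The `n`th step of the filtration by leading position. -/
def level (n : ℕ) : Subgroup H where
  carrier := {h | ZeroBelow n (disp ρ h)}
  one_mem' := fun i j _ _ => by simp [disp]
  mul_mem' := fun {x y} hx hy i j hij hn => by
    rw [disp_eq_zero_mul ρ hu hx hn.le, hx i j hij hn, hy i j hij hn, add_zero]
  inv_mem' := fun {x} hx i j hij hn => by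
    have h := disp_eq_zero_mul ρ hu (y := x⁻¹) hx hn.le
    rw [mul_inv_cancel, hx i j hij hn, zero_add] at h
    simp [disp] at h ⊢
    exact h.symm

/-- The leading positions. -/
def leads : Set (Fin a × Fin a) :=
  {q | q.1 < q.2 ∧ ∃ h, ZeroBelow (posKey q) (disp ρ h) ∧ disp ρ h q.1 q.2 ≠ 0}

/-- The leading positions that are no composite of two others. -/
def gensPos : Set (Fin a × Fin a) :=
  {q | q ∈ leads ρ ∧ ∀ j, ¬ ((q.1, j) ∈ leads ρ ∧ (j, q.2) ∈ leads ρ)}

theorem card_gensPos_le : (gensPos ρ).ncard ≤ a ^ 2 / 4 := by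
  classical
  set Q := gensPos ρ
  let Gr : SimpleGraph (Fin a) :=
    SimpleGraph.fromRel fun i j => (i, j) ∈ Q
  have hlt : ∀ q ∈ Q, q.1 < q.2 := fun q hq => hq.1.1
  have hadj : ∀ i j, Gr.Adj i j → i < j → (i, j) ∈ Q := by
    intro i j h hij
    rcases h.2 with h | h
    · exact h
    · exact absurd (hlt _ h) (not_lt_of_gt hij)
  have hcf : Gr.CliqueFree 3 := by
    intro s hs
    rw [SimpleGraph.is3Clique_iff] at hs
    obtain ⟨x, y, z, hxy, hxz, hyz, -⟩ := hs
    have key : ∀ i j k, i < j → j < k → Gr.Adj i j → Gr.Adj j k → Gr.Adj i k → False :=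
      fun i j k hij hjk h1 h2 h3 => (hadj i k h3 (hij.trans hjk)).2 j
        ⟨(hadj i j h1 hij).1, (hadj j k h2 hjk).1⟩
    rcases lt_or_gt_of_ne hxy.ne with h1 | h1 <;> rcases lt_or_gt_of_ne hxz.ne with h2 | h2 <;>
      rcases lt_or_gt_of_ne hyz.ne with h3 | h3
    · exact key x y z h1 h3 hxy hyz hxz
    · exact key x z y h2 h3 hxz hyz.symm hxy
    · exact absurd ((h1.trans h3).trans h2) (lt_irrefl _)
    · exact key z x y h2 h1 hxz.symm hxy hyz.symm
    · exact key y x z h1 h2 hxy.symm hxz hyz
    · exact absurd ((h2.trans h3).trans h1) (lt_irrefl _)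
    · exact key y z x h3 h2 hyz hxz.symm hxy.symm
    · exact key z y x h3 h1 hyz.symm hxy.symm hxz.symm
  have hb := SimpleGraph.CliqueFree.card_edgeFinset_le (r := 2) hcf
  simp only [Fintype.card_fin] at hb
  have hQ : Q.ncard ≤ Gr.edgeFinset.card := by
    rw [← Set.ncard_coe_finset, SimpleGraph.coe_edgeFinset]
    refine Set.ncard_le_ncard_of_injOn (fun q : Fin a × Fin a => s(q.1, q.2)) ?_ ?_
    · intro q hq
      exact ⟨(hlt q hq).ne, Or.inl hq⟩
    · intro q hq q' hq' h
      rcases Sym2.eq_iff.1 h with ⟨h1, h2⟩ | ⟨h1, h2⟩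
      · exact Prod.ext h1 h2
      · exact absurd (h1 ▸ h2 ▸ hlt q hq) (not_lt_of_gt (hlt q' hq'))
  refine hQ.trans (hb.trans ?_)
  rcases Nat.mod_two_eq_zero_or_one a with h | h <;> rw [h] <;> simp [Nat.choose] <;> omega

theorem genBy_of_unitriangular (hinj : Function.Injective ρ) (hH : IsPGroup p H) :
    GenBy H (a ^ 2 / 4) := by
  classical
  have hlead : ∀ q ∈ leads ρ, ∃ h, ZeroBelow (posKey q) (disp ρ h) ∧ disp ρ h q.1 q.2 ≠ 0 :=
    fun q hq => hq.2
  choose! w hw hw0 using hlead
  set S : Finset H := (gensPos ρ).toFinite.toFinset.image w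
  refine ⟨S, Finset.card_image_le.trans ?_, frattini_nongenerating ?_⟩
  · rw [← Set.ncard_eq_toFinset_card _]
    exact card_gensPos_le ρ hu
  set D := closure (S : Set H) ⊔ frattini H
  -- an element of `D` with prescribed leading position
  have hpivot : ∀ q ∈ leads ρ, ∃ d ∈ D, d ∈ level ρ hu (posKey q) ∧
      disp ρ d q.1 q.2 ≠ 0 := by
    rintro ⟨i, k⟩ hq
    by_cases hg : (i, k) ∈ gensPos ρ
    · exact ⟨w (i, k), mem_sup_left (subset_closure (by simpa [S] using ⟨i, k, hg, rfl⟩)),
        hw _ hq, hw0 _ hq⟩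
    simp only [gensPos, Set.mem_setOf_eq, hq, true_and, not_forall, not_not] at hg
    obtain ⟨j, hij, hjk⟩ := hg
    obtain ⟨b1, b2⟩ := bracket_apply (hu (w (i, j))) (hu (w (j, k))) hij.1 hjk.1 (hw _ hij)
      (hw _ hjk)
    set x := w (i, j)
    set y := w (j, k)
    have hC : StrictUp (disp ρ x * disp ρ y - disp ρ y * disp ρ x) := fun r c h => by
      rw [Matrix.sub_apply, (hu x).mul (hu y) r c h, (hu y).mul (hu x) r c h, sub_zero]
    have hd : ∀ r c, posKey (r, c) ≤ posKey (i, k) → disp ρ ⁅x, y⁆ r c =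
        (disp ρ x * disp ρ y - disp ρ y * disp ρ x) r c := by
      intro r c h
      rw [disp_commutator, mul_add, mul_one, Matrix.add_apply,
        mul_apply_eq_zero hC (hu _) b2 h, add_zero]
    refine ⟨⁅x, y⁆, mem_sup_right (PFrattini.commutator_le_frattini hH
      (commutator_mem_commutator (mem_top x) (mem_top y))), fun r c hrc h => ?_, ?_⟩
    · rw [hd r c h.le]; exact b2 r c hrc h
    · rw [hd i k le_rfl, b1]
      exact mul_ne_zero (hw0 _ hij) (hw0 _ hjk)
  have hstep : ∀ m n : ℕ, a * a ≤ n + m → level ρ hu n ≤ D := by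
    intro m
    induction m with
    | zero =>
      intro n hn x hx
      have : x = 1 := hinj (by
        rw [map_one, ← sub_eq_zero]
        refine Matrix.ext fun i j => ?_
        rcases le_or_gt j i with h | h
        · exact hu x i j h
        · refine hx i j h (lt_of_lt_of_le ?_ hn)
          simp only [posKey]
          have : (j.val - i.val) + 1 ≤ a := by have := j.isLt; omega
          nlinarith [i.isLt])
      exact this ▸ one_mem D
    | succ m ih =>
      intro n hn x hx
      have hnext := ih (n + 1) (by omega)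
      by_cases hex : ∀ i j, i < j → posKey (i, j) = n → disp ρ x i j = 0
      · refine hnext fun i j hij h => ?_
        rcases Nat.lt_succ_iff_lt_or_eq.1 h with h | h
        · exact hx i j hij h
        · exact hex i j hij h
      push Not at hex
      obtain ⟨i, j, hij, hk, hne⟩ := hex
      subst hk
      obtain ⟨d, hdD, hdl, hd0⟩ := hpivot (i, j) ⟨hij, x, hx, hne⟩
      let val : level ρ hu (posKey (i, j)) →* Multiplicative (ZMod p) :=
        MonoidHom.mk' (fun z => Multiplicative.ofAdd (disp ρ (z : H) i j)) fun z z' => by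
          rw [← ofAdd_add, ← disp_eq_zero_mul ρ hu z.2 le_rfl]; rfl
      set c : ℤ := ((disp ρ x i j / disp ρ d i j).val : ℤ)
      set e : level ρ hu (posKey (i, j)) := ⟨x, hx⟩ * (⟨d, hdl⟩ ^ c)⁻¹
      have he : disp ρ (e : H) i j = 0 := by
        have h1 : val e = 1 := by
          rw [map_mul, map_inv, map_zpow, mul_inv_eq_one]
          show Multiplicative.ofAdd _ = Multiplicative.ofAdd _ ^ c
          rw [← ofAdd_zsmul, zsmul_eq_mul, Int.cast_natCast, ZMod.natCast_zmod_val,
            div_mul_cancel₀ _ hd0]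
        exact congrArg Multiplicative.toAdd h1
      have heD : (e : H) ∈ D := hnext fun r s hrs h => by
        rcases Nat.lt_succ_iff_lt_or_eq.1 h with h | h
        · exact e.2 r s hrs h
        · obtain ⟨rfl, rfl⟩ := posKey_inj hrs hij h; exact he
      have hxe : x = (e : H) * d ^ c := by simp [e]
      exact hxe ▸ mul_mem heD (zpow_mem hdD c)
  refine eq_top_iff.2 fun x _ => hstep (a * a) 0 (by omega) (fun i j _ h => absurd h (Nat.not_lt_zero _))

end Cfsg.Agent.Lib.PGenBound
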