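import Mathlib
import Cfsg.Agent.Lib.PGenBound.Leads

/-!
A finite `p`-group acting linearly on a finite `ZMod p`-space is unitriangular in some basis.
-/

set_option autoImplicit false

namespace Cfsg.Agent.Lib.PGenBound

open Module

variable {p : ℕ} [Fact p.Prime] {V : Type*} [AddCommGroup V] [Module (ZMod p) V] [Finite V]
  {P : Type*} [Group P] (ρ : P →* Module.End (ZMod p) V)

theorem exists_fixed_mod (hP : IsPGroup p P) (W : Submodule (ZMod p) V) (hW : W ≠ ⊤)
    (hinv : ∀ g, ∀ w ∈ W, ρ g w ∈ W) : ∃ v, v ∉ W ∧ ∀ g, ρ g v - v ∈ W := by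
  have hle : ∀ g, W ≤ W.comap (ρ g) := hinv
  letI : MulAction P (V ⧸ W) :=
    { smul := fun g x => W.mapQ W (ρ g) (hle g) x
      one_smul := fun x => by
        induction x using Submodule.Quotient.induction_on with
        | H v => show W.mapQ W (ρ 1) _ (Submodule.Quotient.mk v) = _
                 rw [Submodule.mapQ_apply, map_one]; rfl
      mul_smul := fun g h x => by
        induction x using Submodule.Quotient.induction_on with
        | H v => show W.mapQ W (ρ (g * h)) _ (Submodule.Quotient.mk v) =
                   W.mapQ W (ρ g) _ (W.mapQ W (ρ h) _ (Submodule.Quotient.mk v))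
                 rw [Submodule.mapQ_apply, Submodule.mapQ_apply, Submodule.mapQ_apply, map_mul]; rfl }
  haveI : Nontrivial (V ⧸ W) := Submodule.Quotient.nontrivial_iff.2 hW
  haveI : Finite (V ⧸ W) := Finite.of_surjective _ (Submodule.mkQ_surjective W)
  have hdvd : p ∣ Nat.card (V ⧸ W) := by
    rw [Module.natCard_eq_pow_finrank (K := ZMod p), Nat.card_zmod]
    exact dvd_pow_self _ (Module.finrank_pos (R := ZMod p) (M := V ⧸ W)).ne'
  have h0 : (0 : V ⧸ W) ∈ MulAction.fixedPoints P (V ⧸ W) := fun g => map_zero (W.mapQ W (ρ g) (hle g))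
  obtain ⟨x, hx, hne⟩ := hP.exists_fixed_point_of_prime_dvd_card_of_fixed_point _ hdvd h0
  obtain ⟨v, rfl⟩ := Submodule.mkQ_surjective W x
  refine ⟨v, fun h => hne ((Submodule.Quotient.mk_eq_zero W).2 h).symm, fun g => ?_⟩
  rw [← Submodule.Quotient.eq]
  exact (Submodule.mapQ_apply W W (ρ g) v).symm.trans (hx g)

/-- A basis in which all elements are upper unitriangular. -/
theorem exists_unitriangular_basis (hP : IsPGroup p P) :
    ∃ b : Module.Basis (Fin (finrank (ZMod p) V)) (ZMod p) V,
      ∀ g, StrictUp (LinearMap.toMatrix b b (ρ g) - 1) := by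
  classical
  have key : ∀ j ≤ finrank (ZMod p) V, ∃ b : Fin j → V, LinearIndependent (ZMod p) b ∧
      ∀ g i, ρ g (b i) - b i ∈ Submodule.span (ZMod p) (b '' Set.Iio i) := by
    intro j
    induction j with
    | zero => exact fun _ => ⟨Fin.elim0, linearIndependent_empty_type, fun _ i => i.elim0⟩
    | succ j ih =>
      intro hj
      obtain ⟨b, hb, hbt⟩ := ih (Nat.le_of_succ_le hj)
      set W := Submodule.span (ZMod p) (Set.range b)
      have hWne : W ≠ ⊤ := fun h => by
        have h1 := finrank_span_eq_card hb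
        rw [Fintype.card_fin] at h1
        rw [show Submodule.span (ZMod p) (Set.range b) = ⊤ from h, finrank_top] at h1
        omega
      have hinv : ∀ g, ∀ w ∈ W, ρ g w ∈ W := fun g w hw => by
        induction hw using Submodule.span_induction with
        | mem x hx =>
          obtain ⟨i, rfl⟩ := hx
          have := Submodule.span_mono (Set.image_subset_range b _) (hbt g i)
          simpa using add_mem this (Submodule.subset_span (Set.mem_range_self i) : b i ∈ W)
        | zero => simp
        | add x y _ _ hx hy => rw [map_add]; exact add_mem hx hy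
        | smul c x _ hx => rw [map_smul]; exact W.smul_mem c hx
      obtain ⟨v, hv, hvt⟩ := exists_fixed_mod ρ hP W hWne hinv
      refine ⟨Fin.snoc b v, linearIndependent_finSnoc.2 ⟨hb, hv⟩, fun g i => ?_⟩
      induction i using Fin.lastCases with
      | last =>
        rw [Fin.snoc_last]
        refine Submodule.span_mono ?_ (hvt g)
        rintro _ ⟨i, rfl⟩
        exact ⟨i.castSucc, Fin.castSucc_lt_last i, Fin.snoc_castSucc _ _ i⟩
      | cast i =>
        rw [Fin.snoc_castSucc]
        refine Submodule.span_mono ?_ (hbt g i)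
        rintro _ ⟨l, hl, rfl⟩
        exact ⟨l.castSucc, Fin.castSucc_lt_castSucc_iff.2 hl, Fin.snoc_castSucc _ _ l⟩
  obtain ⟨b, hb, hbt⟩ := key _ le_rfl
  let B : Module.Basis (Fin (finrank (ZMod p) V)) (ZMod p) V :=
    Module.Basis.mk hb (hb.span_eq_top_of_card_eq_finrank' (Fintype.card_fin _)).ge
  refine ⟨B, fun g i j hji => ?_⟩
  have hB : ∀ l, B l = b l := Module.Basis.mk_apply hb _
  have h1 : B.repr (ρ g (B j) - B j) i = 0 := by
    have hmem := hbt g j
    rw [show b = B from funext fun l => (hB l).symm, B.mem_span_image] at hmem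
    by_contra h
    exact absurd (hmem (Finsupp.mem_support_iff.2 h)) (not_lt_of_ge hji)
  rw [Matrix.sub_apply, LinearMap.toMatrix_apply, Matrix.one_apply]
  rw [map_sub, Finsupp.sub_apply, B.repr_self, Finsupp.single_apply] at h1
  rcases eq_or_ne i j with rfl | hne
  · simpa using h1
  · simpa [hne, hne.symm] using h1

end Cfsg.Agent.Lib.PGenBound
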