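import Mathlib
import Cfsg.Agent.Lib.PGenBound.Flag
import Cfsg.Agent.Lib.PLemmas.AlperinExponent

/-!
For odd `p`: if every normal abelian subgroup of a `p`-group `P` is generated by `k` elements,
then every subgroup of `P` is generated by `k (k + 4) / 4` elements.
-/

set_option autoImplicit false

namespace Cfsg.Agent.Lib.PGenBound

open Subgroup Module

universe u

variable {p : ℕ} [Fact p.Prime]

/-- An abelian group of exponent `p` generated by a set of size `k` has dimension at most `k`. -/
theorem finrank_le_of_closure {A : Type*} [CommGroup A] [Module (ZMod p) (Additive A)]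
    (S : Finset A) (hS : closure (S : Set A) = ⊤) : finrank (ZMod p) (Additive A) ≤ S.card := by
  classical
  set T : Finset (Additive A) := S.image Additive.ofMul
  have htop : Submodule.span (ZMod p) (T : Set (Additive A)) = ⊤ := by
    refine eq_top_iff.2 fun x hxt => ?_
    clear hxt
    obtain ⟨z, rfl⟩ := Additive.ofMul.surjective x
    have hx : z ∈ closure (S : Set A) := hS ▸ mem_top _
    induction hx using closure_induction with
    | mem y hy => exact Submodule.subset_span (Finset.mem_coe.2 (Finset.mem_image_of_mem _ hy))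
    | one => exact zero_mem (Submodule.span (ZMod p) (T : Set (Additive A)))
    | mul y z _ _ hy hz => exact Submodule.add_mem _ hy hz
    | inv y _ hy => exact Submodule.neg_mem _ hy
  calc finrank (ZMod p) (Additive A) = finrank (ZMod p) (Submodule.span (ZMod p) (T : Set (Additive A))) := by
        rw [htop, finrank_top]
    _ ≤ T.card := finrank_span_finset_le_card T
    _ ≤ S.card := Finset.card_image_le

theorem genBy_subgroup {P : Type u} [Group P] [Finite P] (hp : p ≠ 2) (hP : IsPGroup p P) (k : ℕ)
    (hab : ∀ A : Subgroup P, A.Normal → IsMulCommutative A →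
      ∃ S : Finset P, S.card ≤ k ∧ closure (S : Set P) = A) (H : Subgroup P) :
    GenBy H (k * (k + 4) / 4) := by
  classical
  obtain ⟨A, hA⟩ := (Set.toFinite {A : Subgroup P |
    A.Normal ∧ IsMulCommutative A ∧ ∀ a ∈ A, a ^ p = 1}).exists_maximal
    ⟨⊥, inferInstance, inferInstance, fun a ha => by rw [mem_bot.1 ha, one_pow]⟩
  obtain ⟨hAn, hAc, hAe⟩ := hA.1
  haveI := hAn; haveI := hAc
  have halp : ∀ x ∈ centralizer (A : Set P), x ^ p = 1 → x ∈ A := by
    have := PLemmas.mem_of_maximal_normal_abelian_exponent hP 1 (by simpa using hp) A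
      (by simpa using hAe) fun B hB hBc hBe hAB =>
        le_antisymm (hA.2 ⟨hB, hBc, by simpa using hBe⟩ hAB) hAB
    simpa using this
  letI : CommGroup A := { (inferInstance : Group A) with mul_comm := fun a b => mul_comm' a b }
  letI : Module (ZMod p) (Additive A) :=
    AddCommGroup.zmodModule (n := p) fun x => Subtype.ext (hAe _ x.toMul.2)
  -- dimension
  obtain ⟨S, hS, hSA⟩ := hab A hAn hAc
  set d := finrank (ZMod p) (Additive A) with hd
  have hdk : d ≤ k := by
    have hS' : ∀ x ∈ S, x ∈ A := fun x hx => hSA ▸ subset_closure hx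
    let T : Finset A := S.attach.image fun x => ⟨x.1, hS' _ x.2⟩
    refine (finrank_le_of_closure T ?_).trans
      ((Finset.card_image_le.trans_eq S.card_attach).trans hS)
    apply map_injective (f := A.subtype) A.subtype_injective
    rw [MonoidHom.map_closure, ← MonoidHom.range_eq_map, range_subtype]
    convert hSA using 2
    ext x
    simp only [T, Finset.coe_image, Set.mem_image]
    constructor
    · rintro ⟨_, ⟨y, -, rfl⟩, rfl⟩; exact y.2
    · intro hx; exact ⟨_, ⟨⟨x, hx⟩, by simp, rfl⟩, rfl⟩
  have hcard : Nat.card A = p ^ d := by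
    rw [hd, ← Nat.card_congr (Additive.toMul (α := A)),
      Module.natCard_eq_pow_finrank (K := ZMod p), Nat.card_zmod]
  -- the representation
  let ρ : P →* Module.End (ZMod p) (Additive A) :=
    { toFun := fun g => AddMonoidHom.toZModLinearMap p
        (MonoidHom.toAdditive (MulAut.conjNormal g : MulAut A).toMonoidHom)
      map_one' := by ext x; simp
      map_mul' := fun g h => by ext x; simp [mul_assoc] }
  obtain ⟨b, hb⟩ := exists_unitriangular_basis ρ hP
  let M : P →* Matrix (Fin d) (Fin d) (ZMod p) :=
    { toFun := fun g => LinearMap.toMatrix b b (ρ g)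
      map_one' := by rw [map_one, LinearMap.toMatrix_one]
      map_mul' := fun g h => by rw [map_mul, LinearMap.toMatrix_mul] }
  let Mu : H →* (Matrix (Fin d) (Fin d) (ZMod p))ˣ := MonoidHom.toHomUnits (M.comp H.subtype)
  -- the kernel centralises `A`
  have hker : ∀ x : Mu.ker, ((x : H) : P) ∈ centralizer (A : Set P) := by
    intro x
    rw [mem_centralizer_iff]
    intro a ha
    have h1 : M ((x : H) : P) = 1 := congrArg Units.val x.2
    have h2 : ρ ((x : H) : P) = 1 := (LinearMap.toMatrix b b).injective (h1.trans (LinearMap.toMatrix_one b).symm)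
    have h3 := congrArg (fun f : Module.End (ZMod p) (Additive A) =>
      ((f (Additive.ofMul ⟨a, ha⟩)).toMul : P)) h2
    simp [ρ] at h3
    exact (mul_inv_eq_iff_eq_mul.1 h3).symm
  have hpc : H66.RankTwo.PCen p Mu.ker := fun x hx => by
    have hxA : ((x : H) : P) ∈ A := halp _ (hker x) (by
      simpa using congrArg (fun y : Mu.ker => ((y : H) : P)) hx)
    refine mem_center_iff.2 fun y => Subtype.ext (Subtype.ext ?_)
    exact (mem_centralizer_iff.1 (hker y) _ hxA).symm
  have hk : GenBy Mu.ker d := by
    refine genBy_of_central hp ((hP.to_subgroup H).to_subgroup _) hpc ?_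
    rw [← hcard]
    refine Nat.card_le_card_of_injective (fun x => (⟨((x.1 : H) : P), halp _ (hker x.1) (by
      simpa using congrArg (fun y : Mu.ker => ((y : H) : P)) x.2)⟩ : A)) ?_
    intro x y h
    exact Subtype.ext (Subtype.ext (Subtype.ext (congrArg Subtype.val h :)))
  have hr : GenBy Mu.range (d ^ 2 / 4) := by
    refine genBy_of_unitriangular ((Units.coeHom _).comp Mu.range.subtype) ?_ ?_
      ((hP.to_subgroup H).of_surjective Mu.rangeRestrict Mu.rangeRestrict_surjective)
    · rintro ⟨_, h, rfl⟩
      exact hb h.1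
    · exact fun x y h => Subtype.ext (Units.ext h)
  refine (GenBy.of_ker Mu hk hr).mono ?_
  calc d + d ^ 2 / 4 ≤ k + k ^ 2 / 4 :=
        Nat.add_le_add hdk (Nat.div_le_div_right (Nat.pow_le_pow_left hdk 2))
    _ = k * (k + 4) / 4 := by
        rw [show k * (k + 4) = k ^ 2 + k * 4 by ring, Nat.add_mul_div_right _ _ (by norm_num : 0 < 4),
          add_comm]

end Cfsg.Agent.Lib.PGenBound
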